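import Mathlib

/-!
Multiplicities of `K ⊗ L` for an algebraically closed field `K`: the inseparable degree.
-/

set_option autoImplicit false
set_option linter.style.haveILetI false
set_option linter.style.setOption false
set_option maxHeartbeats 1000000
set_option synthInstance.maxHeartbeats 100000

universe u

open TensorProduct

namespace InsepLen

/-- In a reduced Artinian ring, elements of a prime die in the localisation. -/
theorem exists_mul_eq_zero {B : Type u} [CommRing B] [IsReduced B] [IsArtinianRing B] (z : Ideal B)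
    [z.IsPrime] {x : B} (hx : x ∈ z) : ∃ u ∉ z, u * x = 0 := by
  haveI : IsReduced (Localization.AtPrime z) := inferInstance
  have hF := IsArtinianRing.isField_of_isReduced_of_isLocalRing (Localization.AtPrime z)
  have h0 : algebraMap B (Localization.AtPrime z) x = 0 := by
    have h : algebraMap B (Localization.AtPrime z) x ∈ IsLocalRing.maximalIdeal (Localization.AtPrime z) :=
      (IsLocalization.AtPrime.to_map_mem_maximal_iff _ z x).mpr hx
    rwa [(IsLocalRing.isField_iff_maximalIdeal_eq.mp hF), Ideal.mem_bot] at h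
  obtain ⟨⟨u, hu⟩, hux⟩ := (IsLocalization.map_eq_zero_iff z.primeCompl _ x).mp h0
  exact ⟨u, hu, hux⟩

/-- The local rings of `K ⊗ L` have length the inseparable degree. -/
theorem length_localization {k K L : Type u} [Field k] [Field K] [Field L] [Algebra k K]
    [Algebra k L] [IsAlgClosed K] [FiniteDimensional k L] (q : Ideal (K ⊗[k] L)) [q.IsPrime] :
    Module.length (Localization.AtPrime q) (Localization.AtPrime q) = Field.finInsepDegree k L := by
  classical
  haveI : IsArtinianRing (K ⊗[k] L) := IsArtinianRing.of_finite K (K ⊗[k] L)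
  haveI : q.IsMaximal := inferInstance
  letI : Field ((K ⊗[k] L) ⧸ q) := Ideal.Quotient.field q
  haveI : Algebra.IsIntegral K ((K ⊗[k] L) ⧸ q) := Algebra.IsIntegral.of_finite K _
  let e0 := RingEquiv.ofBijective (algebraMap K ((K ⊗[k] L) ⧸ q))
    IsAlgClosed.algebraMap_bijective_of_isIntegral
  let χ : (K ⊗[k] L) →ₐ[K] K :=
    { toRingHom := e0.symm.toRingHom.comp (Ideal.Quotient.mk q)
      commutes' := fun c => e0.symm_apply_apply c }
  have hχ : ∀ u : (K ⊗[k] L), u ∉ q → χ u ≠ 0 := fun u hu h => hu (Ideal.Quotient.eq_zero_iff_mem.mp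
    (by simpa [χ] using h))
  let τ : L →ₐ[k] K := (χ.restrictScalars k).comp Algebra.TensorProduct.includeRight
  let Ls := separableClosure k L
  letI : Algebra Ls K := (τ.toRingHom.comp Ls.val.toRingHom).toAlgebra
  haveI : IsScalarTower k Ls K := IsScalarTower.of_algebraMap_eq fun c => (τ.commutes c).symm
  haveI : IsScalarTower k Ls L := IsScalarTower.of_algebraMap_eq fun _ => rfl
  have hdeg : Module.finrank Ls L = Field.finInsepDegree k L := rfl
  let τ' : L →ₐ[Ls] K := { toRingHom := τ.toRingHom, commutes' := fun _ => rfl }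
  let B := K ⊗[Ls] L
  let χB : B →ₐ[K] K := Algebra.TensorProduct.lift (AlgHom.id K K) τ' fun _ _ => mul_comm _ _
  let π : (K ⊗[k] L) →ₐ[K] B := Algebra.TensorProduct.lift (Algebra.ofId K B)
    ((Algebra.TensorProduct.includeRight : L →ₐ[Ls] B).restrictScalars k) fun _ _ => mul_comm _ _
  have hπt : ∀ (a : K) (l : L), π (a ⊗ₜ l) = a ⊗ₜ l := fun a l => by
    simp only [π, Algebra.TensorProduct.lift_tmul, Algebra.ofId_apply, AlgHom.coe_restrictScalars',
      Algebra.TensorProduct.includeRight_apply, Algebra.TensorProduct.algebraMap_apply,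
      Algebra.TensorProduct.tmul_mul_tmul, one_mul, mul_one]
    exact (Algebra.TensorProduct.tmul_mul_tmul _ _ _ _).trans (by rw [one_mul]; exact congrArg (· ⊗ₜ l) (mul_one a))
  have hπχ : ∀ z, χB (π z) = χ z := fun z => by
    induction z using TensorProduct.induction_on with
    | zero => simp
    | add x y hx hy => simp only [map_add, hx, hy]
    | tmul a l =>
      rw [hπt]
      simp only [χB, Algebra.TensorProduct.lift_tmul, AlgHom.id_apply]
      rw [show (a ⊗ₜ[k] l : (K ⊗[k] L)) = a • ((1 : K) ⊗ₜ l) by rw [TensorProduct.smul_tmul', smul_eq_mul, mul_one],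
        map_smul, smul_eq_mul]
      rfl
  -- `B` is local with residue field `K`
  have hpow : ∀ z : B, χB z ≠ 0 → IsUnit z := by
    intro z hz
    obtain ⟨p, hp⟩ := ExpChar.exists Ls
    haveI : ExpChar B p := expChar_of_injective_algebraMap (algebraMap Ls B).injective p
    have key : ∀ w : B, ∃ N : ℕ, ∃ c : K, w ^ (p ^ N) = algebraMap K B c := fun w => by
      induction w using TensorProduct.induction_on with
      | zero => exact ⟨0, 0, by simp⟩
      | add u v hu hv =>
        obtain ⟨N, c, hc⟩ := hu
        obtain ⟨M, d, hd⟩ := hv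
        refine ⟨N + M, c ^ (p ^ M) + d ^ (p ^ N), ?_⟩
        rw [add_pow_expChar_pow, map_add, map_pow, map_pow, ← hc, ← hd, ← pow_mul, ← pow_mul,
          ← pow_add, ← pow_add, add_comm M N]
      | tmul a l =>
        obtain ⟨N, l', hl⟩ := IsPurelyInseparable.pow_mem Ls p l
        refine ⟨N, a ^ (p ^ N) * algebraMap Ls K l', ?_⟩
        rw [Algebra.TensorProduct.tmul_pow, ← hl, Algebra.algebraMap_eq_smul_one (A := L),
          ← TensorProduct.smul_tmul, Algebra.smul_def, mul_comm]
        rfl
    obtain ⟨N, c, hc⟩ := key z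
    have hc0 : c ≠ 0 := fun h => by
      have := congrArg χB hc
      rw [map_pow, h, map_zero, map_zero] at this
      exact hz (pow_eq_zero_iff (pow_ne_zero N (expChar_pos Ls p).ne') |>.mp this)
    exact (isUnit_pow_iff (pow_ne_zero N (expChar_pos Ls p).ne')).mp
      (hc ▸ (isUnit_iff_ne_zero.mpr hc0).map (algebraMap K B))
  have hπu : ∀ u : q.primeCompl, IsUnit (π.toRingHom u) := fun u =>
    hpow _ (by rw [show π.toRingHom u = π (u : (K ⊗[k] L)) from rfl, hπχ]; exact hχ _ u.2)
  let T := Localization.AtPrime q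
  let Φ : T →+* B := IsLocalization.lift hπu
  -- the equaliser relations hold in the localisation
  haveI : Algebra.FormallyUnramified k Ls := Algebra.FormallyUnramified.of_isSeparable k Ls
  haveI : IsReduced (K ⊗[k] Ls) := Algebra.FormallyUnramified.isReduced_of_field K (K ⊗[k] Ls)
  haveI : IsArtinianRing (K ⊗[k] Ls) := IsArtinianRing.of_finite K (K ⊗[k] Ls)
  let inc : (K ⊗[k] Ls) →ₐ[k] (K ⊗[k] L) := Algebra.TensorProduct.map (AlgHom.id k K) Ls.val
  have hkill : ∀ s : Ls, algebraMap (K ⊗[k] L) T ((algebraMap Ls K s) ⊗ₜ (1 : L)) =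
      algebraMap (K ⊗[k] L) T ((1 : K) ⊗ₜ (s : L)) := fun s => by
    rw [← sub_eq_zero, ← map_sub]
    have hmem : (algebraMap Ls K s) ⊗ₜ (1 : Ls) - (1 : K) ⊗ₜ s ∈ q.comap inc := by
      rw [Ideal.mem_comap]
      by_contra h
      refine hχ _ h ?_
      change χ (inc (_ - _)) = 0
      rw [map_sub, map_sub]
      simp only [inc, Algebra.TensorProduct.map_tmul, AlgHom.id_apply]
      rw [show Ls.val 1 = (1 : L) from map_one _, show (algebraMap Ls K s) ⊗ₜ[k] (1 : L) = algebraMap K (K ⊗[k] L) (algebraMap Ls K s) from rfl, AlgHom.commutes]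
      exact sub_self (τ (s : L))
    obtain ⟨u, hu, hux⟩ := exists_mul_eq_zero (B := K ⊗[k] Ls) _ hmem
    refine (IsLocalization.map_eq_zero_iff q.primeCompl T _).mpr ⟨⟨inc u, hu⟩, ?_⟩
    have := congrArg inc hux
    rw [map_mul, map_sub, map_zero] at this
    simpa [inc] using this
  let f : K →+ L →+ T :=
    { toFun := fun a =>
        { toFun := fun l => algebraMap (K ⊗[k] L) T (a ⊗ₜ l)
          map_zero' := by simp
          map_add' := fun x y => by simp [TensorProduct.tmul_add] }
      map_zero' := by ext l; simp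
      map_add' := fun x y => by ext l; simp [TensorProduct.add_tmul] }
  let Ψ : B →+ T := TensorProduct.liftAddHom f fun s a l => by
    change algebraMap (K ⊗[k] L) T ((s • a) ⊗ₜ l) = algebraMap (K ⊗[k] L) T (a ⊗ₜ (s • l))
    have h1 : ((s • a) ⊗ₜ l : (K ⊗[k] L)) = (algebraMap Ls K s) ⊗ₜ (1 : L) * a ⊗ₜ l := by
      rw [Algebra.TensorProduct.tmul_mul_tmul, one_mul, Algebra.smul_def]
    have h2 : (a ⊗ₜ (s • l) : (K ⊗[k] L)) = (1 : K) ⊗ₜ (s : L) * a ⊗ₜ l := by
      rw [Algebra.TensorProduct.tmul_mul_tmul, one_mul]; rfl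
    rw [h1, h2, map_mul, map_mul, hkill]
  have hΨ : ∀ z : (K ⊗[k] L), Ψ (π z) = algebraMap (K ⊗[k] L) T z := fun z => by
    induction z using TensorProduct.induction_on with
    | zero => simp
    | add x y hx hy => simp only [map_add, hx, hy]
    | tmul a l => rw [hπt]; rfl
  have hsurj : Function.Surjective Φ := fun b => by
    suffices ∃ z, π z = b by
      obtain ⟨z, rfl⟩ := this
      exact ⟨algebraMap (K ⊗[k] L) T z, IsLocalization.lift_eq hπu z⟩
    induction b using TensorProduct.induction_on with
    | zero => exact ⟨0, map_zero _⟩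
    | add x y hx hy =>
      obtain ⟨a, rfl⟩ := hx
      obtain ⟨b, rfl⟩ := hy
      exact ⟨a + b, map_add _ _ _⟩
    | tmul a l => exact ⟨a ⊗ₜ l, hπt a l⟩
  have hinj : Function.Injective Φ := (injective_iff_map_eq_zero Φ).mpr fun t ht => by
    obtain ⟨⟨a, u⟩, h⟩ := IsLocalization.surj q.primeCompl t
    have h0 : π a = 0 := by
      have := congrArg Φ h
      rw [map_mul, ht, zero_mul, IsLocalization.lift_eq] at this
      exact this.symm
    have ha : algebraMap (K ⊗[k] L) T a = 0 := by rw [← hΨ, h0, map_zero]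
    rw [ha] at h
    exact (IsLocalization.map_units T u).mul_left_eq_zero.mp h
  -- lengths
  let E : T ≃+* B := RingEquiv.ofBijective Φ ⟨hinj, hsurj⟩
  have hE : ∀ c : K, E (algebraMap (K ⊗[k] L) T (algebraMap K (K ⊗[k] L) c)) = algebraMap K B c := fun c =>
    (IsLocalization.lift_eq hπu _).trans (π.commutes c)
  let ψ : T →+* K := χB.toRingHom.comp Φ
  have hψ : ∀ c : K, ψ (algebraMap K T c) = c := fun c => by
    rw [IsScalarTower.algebraMap_apply K (K ⊗[k] L) T]
    change χB (E _) = c
    rw [hE, AlgHom.commutes]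
    rfl
  have hres : Function.Bijective (algebraMap K (IsLocalRing.ResidueField T)) := by
    refine ⟨(algebraMap K _).injective, fun x => ?_⟩
    obtain ⟨t, rfl⟩ := IsLocalRing.residue_surjective x
    refine ⟨ψ t, ?_⟩
    rw [IsScalarTower.algebraMap_apply K T, IsLocalRing.ResidueField.algebraMap_eq]
    refine Ideal.Quotient.eq.mpr ((IsLocalRing.mem_maximalIdeal _).mpr fun hu => ?_)
    have h1 : ψ (algebraMap K T (ψ t) - t) = 0 := by rw [map_sub, hψ, sub_self]
    exact (hu.map ψ).ne_zero h1
  let EA : T ≃ₗ[K] B :=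
    { E.toAddEquiv with
      map_smul' := fun c t => by
        change E (c • t) = c • E t
        rw [Algebra.smul_def (A := B), Algebra.smul_def (A := T), map_mul,
          IsScalarTower.algebraMap_apply K (K ⊗[k] L) T, hE] }
  haveI : Module.Finite Ls L := Module.Finite.right k Ls L
  haveI : Module.Finite K T := Module.Finite.equiv EA.symm
  have hlen : Module.length K T = (Field.finInsepDegree k L : ℕ∞) := by
    rw [Module.length_eq_finrank, EA.finrank_eq, Module.finrank_baseChange, hdeg]
  have key := IsLocalRing.length_restrictScalars K T T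
  have hres' : Function.Surjective
      (algebraMap (IsLocalRing.ResidueField K) (IsLocalRing.ResidueField T)) := fun x => by
    obtain ⟨c, rfl⟩ := hres.2 x
    exact ⟨IsLocalRing.residue K c, rfl⟩
  rw [hlen, Module.length_eq_of_surjective (R := IsLocalRing.ResidueField T)
    (M := IsLocalRing.ResidueField T) hres', Module.length_eq_one (IsLocalRing.ResidueField T) (IsLocalRing.ResidueField T), mul_one] at key
  exact key.symm

end InsepLen
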